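import Cfsg.Agent.Lib.J4Dce89.Engine

/-!
The packed evaluation `pev` determines the images of the 24 points.
-/

namespace Cfsg.Agent.Lib.J4Dce89

/-- pack a list, five bits for each entry -/
def packL (l : List ℕ) : ℕ := l.foldr (fun a s => a + 32 * s) 0

theorem lane_eq (s k : ℕ) : lane s k = s / 2 ^ k % 32 := by
  show (s >>> k) &&& (2 ^ 5 - 1) = _
  rw [Nat.shiftRight_eq_div_pow, Nat.and_two_pow_sub_one_eq_mod]

theorem lane_packL : ∀ (l : List ℕ), (∀ a ∈ l, a < 32) → ∀ i, i < l.length →
    lane (packL l) (5 * i) = l.getD i 0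
  | [], _, i, h => by simp at h
  | a :: l, hl, 0, _ => by
    have ha := hl a (List.mem_cons_self)
    rw [lane_eq, show packL (a :: l) = a + 32 * packL l from rfl]
    simp only [Nat.mul_zero, pow_zero, Nat.div_one, List.getD_cons_zero]
    omega
  | a :: l, hl, i + 1, h => by
    have ha := hl a (List.mem_cons_self)
    have ih := lane_packL l (fun b hb => hl b (List.mem_cons_of_mem _ hb)) i
      (by simpa using h)
    rw [lane_eq] at ih ⊢
    rw [show packL (a :: l) = a + 32 * packL l from rfl, show 5 * (i + 1) = 5 + 5 * i by ring,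
      pow_add, ← Nat.div_div_eq_div_mul, show (2 : ℕ) ^ 5 = 32 from rfl,
      Nat.add_mul_div_left _ _ (by norm_num : 0 < 32), Nat.div_eq_of_lt ha, zero_add,
      List.getD_cons_succ]
    exact ih

theorem laneX_pts : (List.range 24).map (fun i => 5 * app false i) =
    [15, 20, 50, 0, 5, 65, 75, 60, 100, 80, 10, 85, 35, 25, 105, 30, 45, 55, 95, 90, 40, 70, 115, 110] := by decide +kernel

theorem laneX_unfold (s : ℕ) : laneX s = packL ([15, 20, 50, 0, 5, 65, 75, 60, 100, 80, 10, 85, 35, 25, 105, 30, 45, 55, 95, 90, 40, 70, 115, 110].map (lane s)) := by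
  unfold laneX
  simp only [packL, List.map_cons, List.map_nil, List.foldr_cons, List.foldr_nil]
  simp only [Nat.add_eq, Nat.mul_eq, Nat.mul_zero, Nat.add_zero]

theorem laneX_eq (s : ℕ) :
    laneX s = packL ((List.range 24).map fun i => lane s (5 * app false i)) := by
  rw [laneX_unfold, ← laneX_pts]
  simp only [List.map_map, Function.comp_def]

theorem laneY_pts : (List.range 24).map (fun i => 5 * app true i) =
    [95, 65, 10, 15, 20, 25, 100, 30, 5, 110, 85, 55, 0, 40, 75, 115, 45, 90, 50, 60, 35, 105, 80, 70] := by decide +kernel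

theorem laneY_unfold (s : ℕ) : laneY s = packL ([95, 65, 10, 15, 20, 25, 100, 30, 5, 110, 85, 55, 0, 40, 75, 115, 45, 90, 50, 60, 35, 105, 80, 70].map (lane s)) := by
  unfold laneY
  simp only [packL, List.map_cons, List.map_nil, List.foldr_cons, List.foldr_nil]
  simp only [Nat.add_eq, Nat.mul_eq, Nat.mul_zero, Nat.add_zero]

theorem laneY_eq (s : ℕ) :
    laneY s = packL ((List.range 24).map fun i => lane s (5 * app true i)) := by
  rw [laneY_unfold, ← laneY_pts]
  simp only [List.map_map, Function.comp_def]

theorem app_lt : ∀ b : Bool, ∀ i, i < 24 → app b i < 24 := by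
  have h : (List.range 24).all (fun i => Nat.blt (app false i) 24 && Nat.blt (app true i) 24) = true := by
    decide +kernel
  intro b i hi
  have := List.all_eq_true.mp h i (List.mem_range.mpr hi)
  simp only [Bool.and_eq_true, Nat.blt_eq] at this
  cases b
  · exact this.1
  · exact this.2

theorem imgPt_lt : ∀ (w : W) (i : ℕ), i < 24 → imgPt w i < 24
  | [], _, hi => hi
  | b :: w, i, hi => imgPt_lt w _ (app_lt b i hi)

theorem forceN_eq {α : Type} (n : ℕ) (f : ℕ → α) : forceN n f = f n := by
  cases n <;> rfl

section

attribute [local irreducible] laneX laneY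

theorem pev_cons (b : Bool) (w : W) : pev (b :: w) = bif b then laneY (pev w) else laneX (pev w) := by
  unfold pev
  simp only [forceN_eq]
  cases b <;> rfl

end

theorem pev_spec : ∀ w : W, pev w = packL ((List.range 24).map (imgPt w))
  | [] => by decide +kernel
  | b :: w => by
    have hl : ∀ a ∈ (List.range 24).map (imgPt w), a < 32 := by
      intro a ha
      obtain ⟨i, hi, rfl⟩ := List.mem_map.mp ha
      exact (imgPt_lt w i (List.mem_range.mp hi)).trans (by norm_num)
    have key : ∀ c : Bool, packL ((List.range 24).map fun i => lane (pev w) (5 * app c i)) =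
        packL ((List.range 24).map (imgPt (c :: w))) := by
      intro c
      congr 1
      refine List.map_congr_left fun i hi => ?_
      have h24 := app_lt c i (List.mem_range.mp hi)
      rw [pev_spec w, lane_packL _ hl _ (by simpa using h24),
        List.getD_eq_getElem _ _ (by simpa using h24)]
      simp [imgPt]
    rw [pev_cons]
    cases b
    · rw [cond_false, laneX_eq]; exact key false
    · rw [cond_true, laneY_eq]; exact key true

/-- equal packed values mean equal images of all 24 points -/
theorem imgPt_eq_of_pev_eq {a b : W} (h : pev a = pev b) : ∀ i, i < 24 → imgPt a i = imgPt b i := by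
  intro i hi
  have hl : ∀ w : W, lane (pev w) (5 * i) = imgPt w i := by
    intro w
    rw [pev_spec, lane_packL _ (fun c hc => by
        obtain ⟨j, hj, rfl⟩ := List.mem_map.mp hc
        exact (imgPt_lt w j (List.mem_range.mp hj)).trans (by norm_num)) i (by simpa using hi),
      List.getD_eq_getElem _ _ (by simpa using hi)]
    simp
  rw [← hl a, ← hl b, h]

end Cfsg.Agent.Lib.J4Dce89
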