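import Cfsg.Agent.Lib.J4Dce89.Main
import Cfsg.Agent.Lib.J4Dce89.Pev
import Cfsg.Agent.Lib.J4M24Bound96.Main
import Cfsg.Agent.Lib.J4Dce59.Group

/-!
The model hypothesis from the presentation of `M₂₄`, and the export for the presented `J₄`.
-/

namespace Cfsg.Agent.Lib.J4Dce89

open J4M24Bound96 (permXD permYD Rels24)

/-- permutation for a letter -/
noncomputable def letterPerm (b : Bool) : Equiv.Perm (Fin 24) := bif b then permYD else permXD

theorem letterPerm_inv : ∀ (b : Bool) (i : Fin 24), (((letterPerm b)⁻¹ i : Fin 24) : ℕ) = app b i := by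
  decide +kernel

theorem prod_letters_inv : ∀ (w : W) (i : Fin 24),
    ((((w.map letterPerm).prod)⁻¹ i : Fin 24) : ℕ) = imgPt w i
  | [], _ => rfl
  | b :: w, i => by
    rw [List.map_cons, List.prod_cons, mul_inv_rev, Equiv.Perm.mul_apply, prod_letters_inv w,
      letterPerm_inv]
    rfl

theorem prod_letters_eq {a b : W} (h : pev a = pev b) :
    (a.map letterPerm).prod = (b.map letterPerm).prod := by
  refine inv_injective (Equiv.ext fun i => Fin.ext ?_)
  rw [prod_letters_inv, prod_letters_inv, imgPt_eq_of_pev_eq h i i.2]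

/-- the free word of a word -/
def freeWord (w : W) : FreeGroup Bool := (w.map fun c => FreeGroup.of (!c)).prod

theorem lift_freeWord {G : Type*} [Group G] (x y : G) (w : W) :
    FreeGroup.lift (fun c => bif c then x else y) (freeWord w) =
      (w.map fun c => bif c then y else x).prod := by
  rw [freeWord, map_list_prod, List.map_map]
  congr 1
  refine List.map_congr_left fun c _ => ?_
  cases c <;> simp

/-- A pair satisfying the seven relations of `M₂₄` gives a model. -/
def modelOf {G : Type*} [Group G] (x y : G) (h : Rels24 x y) : Model G where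
  x := x
  y := y
  hx := by rw [← pow_two]; exact h.h1
  hy := by
    have := h.h2
    rwa [pow_three, ← mul_assoc] at this
  hM a b hab := by
    rw [← lift_freeWord x y a, ← lift_freeWord x y b]
    refine J4M24Bound96.lift_eq_of_permD h _ _ ?_
    rw [lift_freeWord, lift_freeWord]
    exact prod_letters_eq hab

theorem bitProd_eq_bitsProd {G : Type*} [Group G] (e : Fin 11 → G) (v : ℕ) :
    bitProd e v = J4Dce59.bitsProd e v := by
  unfold bitProd J4Dce59.bitsProd
  induction List.finRange 11 with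
  | nil => rfl
  | cons j l ih => cases hj : v.testBit (j : ℕ) <;> simp [hj, ih]

/-- **The H-level of `J₄`**: the relators give an elementary `2 ^ 11` with the action of `x`, `y`,
containing `u = (y t^w)^3`. -/
theorem exists_e {G : Type*} [Group G] {x y t : G} (h : Rels24 x y) (ht : t * t = 1)
    (tx : Commute x t) (tk : Commute (y * x * y * (x * y⁻¹) ^ 2 * (x * y) ^ 3) t)
    (r11 : (y * ((y * x * y⁻¹ * x * y * x * y⁻¹ * x)⁻¹ * t * (y * x * y⁻¹ * x * y * x * y⁻¹ * x))) ^ 3 = 1)
    (r12 : ((y * x * y * x * y * x * y) ^ 3 * t *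
      (((x * y) ^ 3 * y * (x * y) ^ 6 * y)⁻¹ * t * ((x * y) ^ 3 * y * (x * y) ^ 6 * y))) ^ 2 = 1) :
    ∃ e : Fin 11 → G, J4Dce59.HRel x y e ∧
      (y * (((y * x) ^ 4 * y⁻¹ * x)⁻¹ * t * ((y * x) ^ 4 * y⁻¹ * x))) ^ 3 = J4Dce59.bitsProd e 934 := by
  obtain ⟨e, h1, h2, h3, h4, h5⟩ :=
    J4Rel.exists_e (M := modelOf x y h) (t := t) ⟨ht, tx, tk, r11, r12⟩
  refine ⟨e, ⟨⟨h.h1, h.h2, h.h3, h.h4, h.h5, h.h6, h.h7⟩, fun i => ?_, fun i j => (h2 i j).eq,
    fun i => ?_, fun i => ?_⟩, ?_⟩
  · rw [← pow_two]; exact h1 i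
  · rw [← bitProd_eq_bitsProd]; exact h3 i
  · rw [← bitProd_eq_bitsProd]; exact h4 i
  · rw [← bitProd_eq_bitsProd]; exact h5

end Cfsg.Agent.Lib.J4Dce89
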