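import Cfsg.Agent.Lib.J4Dce89.Engine

/-!
Complete certified chains: a start state, steps, and a final match with a target list.
-/

namespace Cfsg.Agent.Lib.J4Dce89

/-- a rule `τ lhs = ev g * τ rhs` -/
abbrev Rule : Type := List W × W × List W

/-- the word coded by the low bits of `n` -/
def wOf (n len : ℕ) : W := (List.range len).map fun i => n.testBit i

/-- chain certificate -/
structure Chain where
  start : W × List W
  steps : List Step
  g : W
  last : List W
  cert : List (List ℕ)
  target : List W

/-- check of a chain -/
noncomputable def Chain.check (C : Chain) (Γ : List W) (rules : List Rule) : Bool :=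
  chainOK Γ rules C.start C.steps (C.g, C.last) && matchOK Γ C.target C.last C.cert

namespace Model

variable {G : Type*} [Group G] (M : Model G) {c : G} {Γ : List W}

theorem chain_val (hΓ : M.Cents c Γ) {rules : List Rule} (hR : ∀ r ∈ rules, M.RuleOK c r)
    {C : Chain} (h : C.check Γ rules = true) :
    M.val c C.start = M.ev C.g * M.prodTau c C.target := by
  simp only [Chain.check, Bool.and_eq_true] at h
  rw [M.chain_sound hΓ hR h.1, val, M.prodTau_match hΓ h.2]

theorem prodTau_cons (c : G) (a : W) (l : List W) :
    M.prodTau c (a :: l) = M.tau c a * M.prodTau c l := by simp [prodTau]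

theorem prodTau_nil (c : G) : M.prodTau c [] = 1 := rfl

theorem tau_nil (c : G) : M.tau c [] = c := by simp [tau, ev]

theorem tau_mul_self (hc : c * c = 1) (a : W) : M.tau c a * M.tau c a = 1 := by
  rw [tau]
  calc (M.ev a)⁻¹ * c * M.ev a * ((M.ev a)⁻¹ * c * M.ev a) = (M.ev a)⁻¹ * (c * c) * M.ev a := by group
    _ = 1 := by rw [hc]; group

theorem yinv : M.y⁻¹ = M.y * M.y := (eq_inv_of_mul_eq_one_left M.hy).symm

theorem xinv : M.x⁻¹ = M.x := (eq_inv_of_mul_eq_one_left M.hx).symm

end Model

end Cfsg.Agent.Lib.J4Dce89
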