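import Mathlib

/-!
A small certificate checker for products of conjugates of one involution under a group generated
by two elements that is faithfully modelled on 24 points.

A word is a list of letters (`false` for `x`, `true` for `y`); a state `(g, l)` stands for
`ev g * τ l₁ * τ l₂ * ...` with `τ w = (ev w)⁻¹ * c * ev w`.
-/

namespace Cfsg.Agent.Lib.J4Dce89

/-- words in `x` (`false`) and `y` (`true`) -/
abbrev W : Type := List Bool

/-- packed image tables of the two generators, five bits for each point -/
noncomputable def tbl (b : Bool) : ℕ :=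
  Bool.rec (motive := fun _ => ℕ) 0xb5dc894d69354a788a1463da102883 0x742a762a49bbd005c6c1350a4189b3 b

/-- image of the point `i` under a letter -/
noncomputable def app (b : Bool) (i : ℕ) : ℕ := Nat.land (Nat.shiftRight (tbl b) (Nat.mul 5 i)) 31

/-- image of a point under a word -/
noncomputable def imgPt (w : W) (i : ℕ) : ℕ := w.foldl (fun j b => app b j) i

/-- five bits from position `k` -/
noncomputable def lane (s k : ℕ) : ℕ := Nat.land (Nat.shiftRight s k) 31

/-- permute the lanes by `x` -/
noncomputable def laneX (s : ℕ) : ℕ :=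
  Nat.add (lane s 15) (Nat.mul 32 (Nat.add (lane s 20) (Nat.mul 32 (Nat.add (lane s 50) (Nat.mul 32 (Nat.add (lane s 0) (Nat.mul 32 (Nat.add (lane s 5) (Nat.mul 32 (Nat.add (lane s 65) (Nat.mul 32 (Nat.add (lane s 75) (Nat.mul 32 (Nat.add (lane s 60) (Nat.mul 32 (Nat.add (lane s 100) (Nat.mul 32 (Nat.add (lane s 80) (Nat.mul 32 (Nat.add (lane s 10) (Nat.mul 32 (Nat.add (lane s 85) (Nat.mul 32 (Nat.add (lane s 35) (Nat.mul 32 (Nat.add (lane s 25) (Nat.mul 32 (Nat.add (lane s 105) (Nat.mul 32 (Nat.add (lane s 30) (Nat.mul 32 (Nat.add (lane s 45) (Nat.mul 32 (Nat.add (lane s 55) (Nat.mul 32 (Nat.add (lane s 95) (Nat.mul 32 (Nat.add (lane s 90) (Nat.mul 32 (Nat.add (lane s 40) (Nat.mul 32 (Nat.add (lane s 70) (Nat.mul 32 (Nat.add (lane s 115) (Nat.mul 32 (lane s 110))))))))))))))))))))))))))))))))))))))))))))))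

/-- permute the lanes by `y` -/
noncomputable def laneY (s : ℕ) : ℕ :=
  Nat.add (lane s 95) (Nat.mul 32 (Nat.add (lane s 65) (Nat.mul 32 (Nat.add (lane s 10) (Nat.mul 32 (Nat.add (lane s 15) (Nat.mul 32 (Nat.add (lane s 20) (Nat.mul 32 (Nat.add (lane s 25) (Nat.mul 32 (Nat.add (lane s 100) (Nat.mul 32 (Nat.add (lane s 30) (Nat.mul 32 (Nat.add (lane s 5) (Nat.mul 32 (Nat.add (lane s 110) (Nat.mul 32 (Nat.add (lane s 85) (Nat.mul 32 (Nat.add (lane s 55) (Nat.mul 32 (Nat.add (lane s 0) (Nat.mul 32 (Nat.add (lane s 40) (Nat.mul 32 (Nat.add (lane s 75) (Nat.mul 32 (Nat.add (lane s 115) (Nat.mul 32 (Nat.add (lane s 45) (Nat.mul 32 (Nat.add (lane s 90) (Nat.mul 32 (Nat.add (lane s 50) (Nat.mul 32 (Nat.add (lane s 60) (Nat.mul 32 (Nat.add (lane s 35) (Nat.mul 32 (Nat.add (lane s 105) (Nat.mul 32 (Nat.add (lane s 80) (Nat.mul 32 (lane s 70))))))))))))))))))))))))))))))))))))))))))))))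

/-- evaluate `n` before use -/
noncomputable def forceN {α : Type} (n : ℕ) (f : ℕ → α) : α :=
  Nat.rec (motive := fun _ => α) (f 0) (fun m _ => f (Nat.succ m)) n

/-- images of the 24 points under a word, packed five bits each -/
noncomputable def pev (w : W) : ℕ :=
  List.rec (motive := fun _ => ℕ) 0xbdab49ca307b9ac5a928398a418820
    (fun b _ s => forceN s fun s => Bool.rec (motive := fun _ => ℕ) (laneX s) (laneY s) b) w

/-- inverse word, using that `x` has order two and `y` order three -/
def winv : W → W
  | [] => []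
  | false :: w => winv w ++ [false]
  | true :: w => winv w ++ [true, true]

/-- concatenation of generators chosen by a list of indices -/
def expand (Γ : List W) (l : List ℕ) : W := l.flatMap fun i => Γ.getD i []

/-- the hypotheses: relators `x ^ 2`, `y ^ 3`, and faithfulness of the model on 24 points -/
structure Model (G : Type*) [Group G] where
  x : G
  y : G
  hx : x * x = 1
  hy : y * y * y = 1
  hM : ∀ a b : W, pev a = pev b →
    (a.map fun c => bif c then y else x).prod = (b.map fun c => bif c then y else x).prod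

namespace Model

variable {G : Type*} [Group G] (M : Model G)

/-- value of a word -/
def ev (w : W) : G := (w.map fun c => bif c then M.y else M.x).prod

theorem ev_nil : M.ev [] = 1 := rfl

theorem ev_append (a b : W) : M.ev (a ++ b) = M.ev a * M.ev b := by simp [ev]

theorem ev_congr {a b : W} (h : pev a = pev b) : M.ev a = M.ev b := M.hM a b h

theorem ev_winv : ∀ w : W, M.ev (winv w) = (M.ev w)⁻¹
  | [] => by simp [winv, ev]
  | false :: w => by
    have h : M.x = M.x⁻¹ := eq_inv_of_mul_eq_one_left M.hx
    rw [winv, ev_append, ev_winv w, show (false :: w) = [false] ++ w from rfl, ev_append, mul_inv_rev]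
    simp [ev, ← h]
  | true :: w => by
    have h : M.y * M.y = M.y⁻¹ := eq_inv_of_mul_eq_one_left M.hy
    rw [winv, ev_append, ev_winv w, show (true :: w) = [true] ++ w from rfl, ev_append, mul_inv_rev]
    simp [ev, ← h]

/-- conjugate of `c` by a word -/
def tau (c : G) (w : W) : G := (M.ev w)⁻¹ * c * M.ev w

/-- value of a list of conjugates -/
def prodTau (c : G) (l : List W) : G := (l.map (M.tau c)).prod

/-- value of a state -/
def val (c : G) (s : W × List W) : G := M.ev s.1 * M.prodTau c s.2

/-- a list of words centralising `c` -/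
def Cents (c : G) (Γ : List W) : Prop := ∀ g ∈ Γ, Commute (M.ev g) c

theorem commute_expand {c : G} {Γ : List W} (hΓ : M.Cents c Γ) :
    ∀ l : List ℕ, Commute (M.ev (expand Γ l)) c
  | [] => by simp [expand, ev]
  | i :: l => by
    rw [show expand Γ (i :: l) = Γ.getD i [] ++ expand Γ l by simp [expand], ev_append]
    refine Commute.mul_left ?_ (commute_expand hΓ l)
    rcases Nat.lt_or_ge i Γ.length with h | h
    · rw [List.getD_eq_getElem _ _ h]; exact hΓ _ (List.getElem_mem h)
    · rw [List.getD_eq_default _ _ h]; simp [ev]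

theorem tau_eq {c : G} {Γ : List W} (hΓ : M.Cents c Γ) {a b : W} (l : List ℕ)
    (h : pev b = pev (expand Γ l ++ a)) : M.tau c b = M.tau c a := by
  have hc := M.commute_expand hΓ l
  rw [tau, tau, M.ev_congr h, ev_append, mul_inv_rev]
  calc (M.ev a)⁻¹ * (M.ev (expand Γ l))⁻¹ * c * (M.ev (expand Γ l) * M.ev a)
      = (M.ev a)⁻¹ * ((M.ev (expand Γ l))⁻¹ * (c * M.ev (expand Γ l))) * M.ev a := by group
    _ = (M.ev a)⁻¹ * c * M.ev a := by rw [← hc.eq]; group

theorem tau_append (c : G) (a h : W) :
    M.tau c (a ++ h) = (M.ev h)⁻¹ * M.tau c a * M.ev h := by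
  rw [tau, tau, ev_append]; group

theorem prodTau_append (c : G) (a b : List W) :
    M.prodTau c (a ++ b) = M.prodTau c a * M.prodTau c b := by simp [prodTau]

theorem prodTau_conj (c : G) (h : W) : ∀ l : List W,
    M.prodTau c (l.map (· ++ h)) = (M.ev h)⁻¹ * M.prodTau c l * M.ev h
  | [] => by simp [prodTau]
  | a :: l => by
    have ih := prodTau_conj c h l
    simp only [prodTau, List.map_cons, List.prod_cons] at ih ⊢
    rw [ih, tau_append]; group

/-- a rule `(lhs, g, rhs)` says `τ lhs = ev g * τ rhs` -/
def RuleOK (c : G) (r : List W × W × List W) : Prop :=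
  M.prodTau c r.1 = M.ev r.2.1 * M.prodTau c r.2.2

end Model

/-- certified equality of two lists of conjugates -/
noncomputable def matchOK (Γ : List W) : List W → List W → List (List ℕ) → Bool
  | [], [], _ => true
  | a :: l, b :: m, e :: es => (pev b == pev (expand Γ e ++ a)) && matchOK Γ l m es
  | _, _, _ => false

/-- a rewriting step: position, rule number, conjugating word, the new state and certificates -/
structure Step where
  i : ℕ
  r : ℕ
  h : W
  next : W × List W
  cl : List (List ℕ)
  cr : List (List ℕ)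

/-- the state obtained by a step, before matching it to the recorded one -/
def rawNext (rules : List (List W × W × List W)) (s : W × List W) (p : Step) : W × List W :=
  let R := rules.getD p.r ([], [], [])
  let g := winv p.h ++ R.2.1 ++ p.h
  (s.1 ++ g, (s.2.take p.i).map (· ++ g) ++ R.2.2.map (· ++ p.h) ++
    s.2.drop (p.i + R.1.length))

/-- check of one step -/
noncomputable def stepOK (Γ : List W) (rules : List (List W × W × List W)) (s : W × List W) (p : Step) : Bool :=
  let R := rules.getD p.r ([], [], [])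
  Nat.ble (p.i + R.1.length) s.2.length &&
    matchOK Γ (R.1.map (· ++ p.h)) ((s.2.drop p.i).take R.1.length) p.cl &&
    (pev p.next.1 == pev (rawNext rules s p).1) &&
    matchOK Γ p.next.2 (rawNext rules s p).2 p.cr

/-- check of a chain of steps -/
noncomputable def chainOK (Γ : List W) (rules : List (List W × W × List W)) :
    W × List W → List Step → W × List W → Bool
  | s, [], t => (pev s.1 == pev t.1) && (s.2 == t.2)
  | s, p :: ps, t => stepOK Γ rules s p && chainOK Γ rules p.next ps t

namespace Model

variable {G : Type*} [Group G] (M : Model G) {c : G} {Γ : List W}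

theorem prodTau_match (hΓ : M.Cents c Γ) : ∀ {l m : List W} {es : List (List ℕ)},
    matchOK Γ l m es = true → M.prodTau c m = M.prodTau c l
  | [], [], _, _ => rfl
  | a :: l, b :: m, e :: es, h => by
    simp only [matchOK, Bool.and_eq_true, beq_iff_eq] at h
    have h2 := prodTau_match hΓ h.2
    simp only [prodTau, List.map_cons, List.prod_cons] at h2 ⊢
    rw [M.tau_eq hΓ e h.1, h2]
  | [], _ :: _, _, h => by simp [matchOK] at h
  | _ :: _, [], _, h => by simp [matchOK] at h
  | _ :: _, _ :: _, [], h => by simp [matchOK] at h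

theorem stepOK_sound (hΓ : M.Cents c Γ) {rules : List (List W × W × List W)}
    (hR : ∀ r ∈ rules, M.RuleOK c r) {s : W × List W} {p : Step}
    (h : stepOK Γ rules s p = true) : M.val c s = M.val c p.next := by
  simp only [stepOK, Bool.and_eq_true, beq_iff_eq] at h
  obtain ⟨⟨⟨hlen, hl⟩, hg⟩, hr⟩ := h
  set R := rules.getD p.r ([], [], []) with hRdef
  have hRok : M.RuleOK c R := by
    rcases Nat.lt_or_ge p.r rules.length with h | h
    · rw [hRdef, List.getD_eq_getElem _ _ h]; exact hR _ (List.getElem_mem h)
    · rw [hRdef, List.getD_eq_default _ _ h]; simp [RuleOK, prodTau, ev]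
  have h1 := M.prodTau_match hΓ hl
  have h2 := M.prodTau_match hΓ hr
  have hsplit : s.2 = s.2.take p.i ++ (s.2.drop p.i).take R.1.length ++
      s.2.drop (p.i + R.1.length) := by
    rw [List.append_assoc, ← List.drop_drop, List.take_append_drop, List.take_append_drop]
  have e1 : M.ev p.next.1 = M.ev s.1 * ((M.ev p.h)⁻¹ * M.ev R.2.1 * M.ev p.h) := by
    rw [M.ev_congr hg]
    simp only [rawNext, ← hRdef, ev_append, ev_winv]
  unfold val
  rw [← h2, e1, show (rawNext rules s p).2 = (s.2.take p.i).map
      (· ++ (winv p.h ++ R.2.1 ++ p.h)) ++ R.2.2.map (· ++ p.h) ++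
        s.2.drop (p.i + R.1.length) from rfl]
  conv_lhs => rw [hsplit]
  simp only [prodTau_append, prodTau_conj, ev_append, ev_winv, h1]
  rw [hRok]
  group

theorem chain_sound (hΓ : M.Cents c Γ) {rules : List (List W × W × List W)}
    (hR : ∀ r ∈ rules, M.RuleOK c r) : ∀ {s t : W × List W} {ps : List Step},
    chainOK Γ rules s ps t = true → M.val c s = M.val c t
  | s, t, [], h => by
    simp only [chainOK, Bool.and_eq_true, beq_iff_eq] at h
    simp only [val, M.ev_congr h.1, h.2]
  | s, t, p :: ps, h => by
    simp only [chainOK, Bool.and_eq_true] at h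
    rw [M.stepOK_sound hΓ hR h.1, chain_sound hΓ hR h.2]

end Model

end Cfsg.Agent.Lib.J4Dce89
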