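import Cfsg.Agent.Lib.J4Dce89.Chain

/-!
Products of thirteen commuting involutions along bit masks, and checkers for linear certificates.
-/

namespace Cfsg.Agent.Lib.J4Dce89

section Phi

variable {G : Type*} [Group G]

/-- product of the `e i`, `i < k`, with bit `i` of `m` set -/
def phi (e : ℕ → G) : ℕ → ℕ → G
  | 0, _ => 1
  | k + 1, m => phi e k m * (bif m.testBit k then e k else 1)

theorem commute_phi (e : ℕ → G) {n : ℕ} (hc : ∀ i j, i < n → j < n → Commute (e i) (e j))
    {g : G} (hg : ∀ i, i < n → Commute g (e i)) : ∀ k, k ≤ n → ∀ m, Commute g (phi e k m)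
  | 0, _, _ => Commute.one_right g
  | k + 1, hk, m => by
    refine Commute.mul_right (commute_phi e hc hg k (by omega) m) ?_
    cases m.testBit k
    · exact Commute.one_right g
    · exact hg k (by omega)

theorem phi_mul (e : ℕ → G) {n : ℕ} (hc : ∀ i j, i < n → j < n → Commute (e i) (e j))
    (h2 : ∀ i, i < n → e i * e i = 1) : ∀ k, k ≤ n → ∀ a b,
      phi e k a * phi e k b = phi e k (a ^^^ b)
  | 0, _, _, _ => by simp [phi]
  | k + 1, hk, a, b => by
    have ih := phi_mul e hc h2 k (by omega) a b
    have hcom : Commute (bif a.testBit k then e k else 1) (phi e k b) := by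
      cases a.testBit k
      · exact Commute.one_left _
      · exact commute_phi e hc (fun i hi => hc k i (by omega) hi) k (by omega) b
    simp only [phi]
    rw [mul_assoc, ← mul_assoc _ (phi e k b), hcom.eq, mul_assoc, ← mul_assoc, ih,
      Nat.testBit_xor]
    cases a.testBit k <;> cases b.testBit k <;> simp [h2 k (by omega)]

theorem phi_conj (e : ℕ → G) (g : G) : ∀ k m,
    g⁻¹ * phi e k m * g = phi (fun i => g⁻¹ * e i * g) k m
  | 0, _ => by simp [phi]
  | k + 1, m => by
    simp only [phi]
    rw [← phi_conj e g k m]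
    cases m.testBit k <;> simp [mul_assoc]

theorem phi_congr {e e' : ℕ → G} : ∀ k, (∀ i, i < k → e i = e' i) → ∀ m, phi e k m = phi e' k m
  | 0, _, _ => rfl
  | k + 1, h, m => by
    simp only [phi]; rw [phi_congr k (fun i hi => h i (by omega)) m, h k (by omega)]

/-- image mask of `m` when bit `i` goes to `f i` -/
def img (f : ℕ → ℕ) : ℕ → ℕ → ℕ
  | 0, _ => 0
  | k + 1, m => img f k m ^^^ (bif m.testBit k then f k else 0)

theorem phi_zero (e : ℕ → G) : ∀ k, phi e k 0 = 1
  | 0 => rfl
  | k + 1 => by simp [phi, phi_zero e k]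

theorem phi_img (e : ℕ → G) {n : ℕ} (hc : ∀ i j, i < n → j < n → Commute (e i) (e j))
    (h2 : ∀ i, i < n → e i * e i = 1) (f : ℕ → ℕ) : ∀ k m,
      phi (fun i => phi e n (f i)) k m = phi e n (img f k m)
  | 0, _ => by simp [phi, img, phi_zero]
  | k + 1, m => by
    simp only [phi, img]
    rw [phi_img e hc h2 f k m, ← phi_mul e hc h2 n le_rfl]
    cases m.testBit k <;> simp [phi_zero]

end Phi

/-- a single step from two words to a list -/
noncomputable def pairOK (Γ : List W) (rules : List Rule) (a b : W) (t : List W) (s : Step) : Bool :=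
  stepOK Γ rules ([], [a, b]) s && (pev s.next.1 == pev []) && (s.next.2 == t)

namespace Model

variable {G : Type*} [Group G] (M : Model G) {c : G} {Γ : List W}

theorem pairOK_sound (hΓ : M.Cents c Γ) {rules : List Rule} (hR : ∀ r ∈ rules, M.RuleOK c r)
    {a b : W} {t : List W} {s : Step} (h : pairOK Γ rules a b t s = true) :
    M.tau c a * M.tau c b = M.prodTau c t := by
  simp only [pairOK, Bool.and_eq_true, beq_iff_eq] at h
  have := M.stepOK_sound hΓ hR h.1.1
  simp only [val, M.ev_nil, one_mul, prodTau_cons, prodTau_nil, mul_one, M.ev_congr h.1.2, h.2] at this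
  exact this

end Model

end Cfsg.Agent.Lib.J4Dce89
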