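import Cfsg.Agent.Lib.J4Dce89.LinData

/-!
Checks of the linear certificate.
-/

namespace Cfsg.Agent.Lib.J4Dce89

set_option maxRecDepth 20000

/-- word number `i` of the list of known conjugates -/
def kw (i : ℕ) : W := (known.getD i ([], 0)).1

/-- mask number `i` -/
def km (i : ℕ) : ℕ := (known.getD i ([], 0)).2

/-- commutation of two seeds -/
noncomputable def pairChk (p : ℕ × ℕ × Step) : Bool :=
  pairOK gamU rulesU6 (kw p.1) (kw p.2.1) [kw p.2.1, kw p.1] p.2.2

/-- entry `13 + k` follows from two earlier ones -/
noncomputable def lineChk (k : ℕ) : Bool :=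
  let p := lineSteps.getD k (0, 0, ⟨0, 0, [], ([], []), [], []⟩)
  Nat.blt p.1 (13 + k) && Nat.blt p.2.1 (13 + k) &&
    pairOK gamU rulesU6 (kw p.1) (kw p.2.1) [kw (13 + k)] p.2.2 &&
    (km (13 + k) == (km p.1 ^^^ km p.2.1))

/-- a line giving a linear relation between the seeds -/
noncomputable def resChk (p : ℕ × ℕ × ℕ × Step) : Bool :=
  pairOK gamU rulesU6 (kw p.1) (kw p.2.1) [kw p.2.2.1] p.2.2.2 &&
    Nat.blt p.1 known.length && Nat.blt p.2.1 known.length && Nat.blt p.2.2.1 known.length

/-- the relations between the seeds -/
def resMask (p : ℕ × ℕ × ℕ × Step) : ℕ := km p.1 ^^^ km p.2.1 ^^^ km p.2.2.1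

/-- the subspace of relations -/
def relSpan : List ℕ :=
  [0, (resSteps.map resMask).getD 0 0, (resSteps.map resMask).getD 1 0,
    (resSteps.map resMask).getD 0 0 ^^^ (resSteps.map resMask).getD 1 0]

/-- xor of the `eMask`s along a mask -/
def comb (m : ℕ) : ℕ := img (fun j => eMask.getD j 0) 11 m

/-- images of the seeds under a letter -/
noncomputable def imgChk (b : Bool) (ims : List (ℕ × List ℕ)) (i : ℕ) : Bool :=
  let p := ims.getD i (0, [])
  Nat.blt p.1 known.length && (pev (kw i ++ [b]) == pev (expand gamU p.2 ++ kw p.1))

/-- the action on the basis is the given matrix -/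
def actChk (ims : List (ℕ × List ℕ)) (MZ : List ℕ) (i : ℕ) : Bool :=
  relSpan.contains (img (fun j => km (ims.getD j (0, [])).1) 13 (eMask.getD i 0) ^^^ comb (MZ.getD i 0))

/-- the matrices of `x` and `y` on the even cocode basis -/
def matX : List ℕ := [12, 516, 4, 5, 1179, 1767, 587, 990, 1933, 6, 1368]
def matY : List ℕ := [1394, 495, 489, 485, 509, 567, 461, 492, 1226, 1201, 1517]

theorem pairs_cover : pairSteps.map (fun p => (p.1, p.2.1)) =
    (List.range 13).flatMap (fun i => (List.range i).map fun j => (j, i)) := by decide +kernel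

theorem pairs_ok : pairSteps.all pairChk = true := by decide +kernel

theorem seeds_mask : (List.range 13).map km = (List.range 13).map (2 ^ ·) := by decide +kernel

theorem lengths_ok : known.length = 13 + lineSteps.length := by decide +kernel

theorem lines_ok : (List.range lineSteps.length).all lineChk = true := by decide +kernel

theorem res_ok : resSteps.all resChk = true ∧ resSteps.length = 2 :=
  ⟨by decide +kernel, by decide +kernel⟩

theorem imgX_ok : (List.range 13).all (imgChk false xImg) = true := by decide +kernel

theorem imgY_ok : (List.range 13).all (imgChk true yImg) = true := by decide +kernel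

theorem actX_ok : (List.range 11).all (actChk xImg matX) = true := by decide +kernel

theorem actY_ok : (List.range 11).all (actChk yImg matY) = true := by decide +kernel

theorem base_ok : kw baseIdx = [] ∧ baseIdx < known.length ∧
    relSpan.contains (km baseIdx ^^^ comb 934) = true :=
  ⟨by decide +kernel, by decide +kernel, by decide +kernel⟩

end Cfsg.Agent.Lib.J4Dce89
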