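import Cfsg.Agent.Lib.J4Dce89.UProof
import Cfsg.Agent.Lib.J4Dce89.LinProof

/-!
The elementary abelian subgroup of order at most `2 ^ 11` of the presented `J₄` generated by the
conjugates of `u = (y t^w)^3` under `⟨x, y⟩`, with the action of `x` and `y`.
-/

namespace Cfsg.Agent.Lib.J4Dce89

variable {G : Type*} [Group G] {M : Model G} {t : G}

/-- ordered product of the `e j` over the bits of `m` -/
def bitProd (e : Fin 11 → G) (m : ℕ) : G :=
  ((List.finRange 11).map fun j : Fin 11 => bif m.testBit j.val then e j else 1).prod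

/-- the thirteen seeds -/
def seedEl (M : Model G) (t : G) (i : ℕ) : G := M.tau (M.uEl t) (kw i)

theorem J4Rel.seed_comm (h : J4Rel M t) :
    ∀ i j, i < 13 → j < 13 → Commute (seedEl M t i) (seedEl M t j) := by
  have key : ∀ i j, j < i → i < 13 → Commute (seedEl M t j) (seedEl M t i) := by
    intro i j hj hi
    have hmem : (j, i) ∈ pairSteps.map (fun p => (p.1, p.2.1)) := by
      rw [pairs_cover, List.mem_flatMap]
      exact ⟨i, List.mem_range.mpr hi, List.mem_map.mpr ⟨j, List.mem_range.mpr hj, rfl⟩⟩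
    obtain ⟨p, hp, he⟩ := List.mem_map.mp hmem
    obtain ⟨rfl, rfl⟩ := Prod.mk.inj he
    have h1 := M.pairOK_sound h.u_cent h.rulesU6_ok (List.all_eq_true.mp pairs_ok p hp)
    simpa [Model.prodTau, seedEl, Commute, SemiconjBy] using h1
  intro i j hi hj
  rcases lt_trichotomy i j with hlt | rfl | hlt
  · exact key j i hlt hj
  · exact Commute.refl _
  · exact (key i j hlt hi).symm

theorem J4Rel.seed_sq (h : J4Rel M t) : ∀ i, i < 13 → seedEl M t i * seedEl M t i = 1 :=
  fun _ _ => M.tau_mul_self h.u_sq _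

theorem J4Rel.phi_xor (h : J4Rel M t) (a b : ℕ) :
    phi (seedEl M t) 13 a * phi (seedEl M t) 13 b = phi (seedEl M t) 13 (a ^^^ b) :=
  phi_mul _ h.seed_comm h.seed_sq 13 le_rfl a b

theorem phi_two_pow (e : ℕ → G) (i : ℕ) : ∀ k, phi e k (2 ^ i) = if i < k then e i else 1
  | 0 => rfl
  | k + 1 => by
    rw [phi, phi_two_pow e i k, Nat.testBit_two_pow]
    rcases lt_trichotomy i k with hlt | rfl | hlt
    · simp [hlt, Nat.lt_succ_of_lt hlt, hlt.ne]
    · simp
    · simp [show ¬ i < k by omega, show ¬ i < k + 1 by omega, hlt.ne']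

theorem J4Rel.known_eq (h : J4Rel M t) : ∀ i, i < known.length →
    M.tau (M.uEl t) (kw i) = phi (seedEl M t) 13 (km i) := by
  intro i
  induction i using Nat.strongRecOn with
  | _ i IH =>
    intro hi
    rcases Nat.lt_or_ge i 13 with h13 | h13
    · have : km i = 2 ^ i := by
        have := List.map_eq_map_iff.mp seeds_mask i (List.mem_range.mpr h13)
        exact this
      rw [this, phi_two_pow, if_pos h13, seedEl]
    · obtain ⟨k, rfl⟩ := Nat.exists_eq_add_of_le h13
      have hk : k < lineSteps.length := by rw [lengths_ok] at hi; omega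
      have hc := List.all_eq_true.mp lines_ok k (List.mem_range.mpr hk)
      simp only [lineChk, Bool.and_eq_true, beq_iff_eq] at hc
      obtain ⟨⟨⟨h1, h2⟩, hp⟩, hm⟩ := hc
      rw [Nat.blt_eq] at h1 h2
      have := M.pairOK_sound h.u_cent h.rulesU6_ok hp
      rw [IH _ h1 (h1.trans hi), IH _ h2 (h2.trans hi), h.phi_xor] at this
      rw [hm, this]
      simp [Model.prodTau]

theorem J4Rel.rel_one (h : J4Rel M t) {r : ℕ} (hr : relSpan.contains r = true) :
    phi (seedEl M t) 13 r = 1 := by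
  have hgen : ∀ j, j < 2 → phi (seedEl M t) 13 ((resSteps.map resMask).getD j 0) = 1 := by
    intro j hj
    have hj' : j < resSteps.length := by rw [res_ok.2]; exact hj
    rw [List.getD_eq_getElem _ _ (by simpa using hj'), List.getElem_map]
    have hc := List.all_eq_true.mp res_ok.1 _ (List.getElem_mem hj')
    generalize resSteps[j] = p at hc ⊢
    simp only [resChk, Bool.and_eq_true] at hc
    obtain ⟨⟨⟨hp, h1⟩, h2⟩, h3⟩ := hc
    rw [Nat.blt_eq] at h1 h2 h3
    have := M.pairOK_sound h.u_cent h.rulesU6_ok hp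
    simp only [Model.prodTau, List.map_cons, List.map_nil, List.prod_cons, List.prod_nil, mul_one,
      h.known_eq _ h1, h.known_eq _ h2, h.known_eq _ h3] at this
    rw [h.phi_xor] at this
    rw [resMask, ← h.phi_xor, this, h.phi_xor, Nat.xor_self, phi_zero]
  have h0 := hgen 0 (by norm_num)
  have h1 := hgen 1 (by norm_num)
  simp only [relSpan, List.contains_iff_mem, List.mem_cons, List.mem_nil_iff, or_false] at hr
  rcases hr with rfl | rfl | rfl | rfl
  · exact phi_zero _ _
  · exact h0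
  · exact h1
  · rw [← h.phi_xor, h0, h1, one_mul]

theorem J4Rel.phi_eq_of_span (h : J4Rel M t) {a b : ℕ} (hr : relSpan.contains (a ^^^ b) = true) :
    phi (seedEl M t) 13 a = phi (seedEl M t) 13 b := by
  have h1 := h.rel_one hr
  calc phi (seedEl M t) 13 a = phi (seedEl M t) 13 (a ^^^ b ^^^ b) := by
        rw [Nat.xor_assoc, Nat.xor_self, Nat.xor_zero]
    _ = phi (seedEl M t) 13 b := by rw [← h.phi_xor, h1, one_mul]

/-- the eleven basis elements -/
def basisEl (M : Model G) (t : G) (i : Fin 11) : G := phi (seedEl M t) 13 (eMask.getD i 0)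

theorem prod_ofFn_phi (e : ℕ → G) : ∀ n m, phi e n m =
    ((List.range n).map fun j => bif m.testBit j then e j else 1).prod
  | 0, _ => rfl
  | n + 1, m => by
    rw [phi, prod_ofFn_phi e n m, List.range_succ, List.map_append, List.prod_append]
    simp

theorem J4Rel.bitProd_eq (h : J4Rel M t) (m : ℕ) :
    bitProd (basisEl M t) m = phi (seedEl M t) 13 (comb m) := by
  rw [comb, ← phi_img _ h.seed_comm h.seed_sq, prod_ofFn_phi (fun j => phi (seedEl M t) 13 (eMask.getD j 0)),
    bitProd, ← List.map_coe_finRange_eq_range (n := 11), List.map_map]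
  rfl

theorem J4Rel.conj_basis (h : J4Rel M t) {b : Bool} {ims : List (ℕ × List ℕ)} {MZ : List ℕ}
    (hi : (List.range 13).all (imgChk b ims) = true)
    (ha : (List.range 11).all (actChk ims MZ) = true) (i : Fin 11) :
    (M.ev [b])⁻¹ * basisEl M t i * M.ev [b] = bitProd (basisEl M t) (MZ.getD i 0) := by
  rw [basisEl, phi_conj, phi_congr 13 (e' := fun j => phi (seedEl M t) 13 (km (ims.getD j (0, [])).1)),
    phi_img _ h.seed_comm h.seed_sq, h.bitProd_eq]
  · refine h.phi_eq_of_span ?_
    exact List.all_eq_true.mp ha i (List.mem_range.mpr i.2)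
  · intro j hj
    have hc := List.all_eq_true.mp hi j (List.mem_range.mpr hj)
    simp only [imgChk, Bool.and_eq_true, beq_iff_eq] at hc
    rw [Nat.blt_eq] at hc
    rw [← h.known_eq _ hc.1, seedEl, ← Model.tau_append]
    exact M.tau_eq h.u_cent _ hc.2

/-- **The elementary abelian `2 ^ 11` of `J₄`**, in coordinates. -/
theorem J4Rel.exists_e (h : J4Rel M t) : ∃ e : Fin 11 → G,
    (∀ i, e i ^ 2 = 1) ∧ (∀ i j, Commute (e i) (e j)) ∧
    (∀ i : Fin 11, M.x⁻¹ * e i * M.x = bitProd e (matX.getD i 0)) ∧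
    (∀ i : Fin 11, M.y⁻¹ * e i * M.y = bitProd e (matY.getD i 0)) ∧
    (M.y * (((M.y * M.x) ^ 4 * M.y⁻¹ * M.x)⁻¹ * t * ((M.y * M.x) ^ 4 * M.y⁻¹ * M.x))) ^ 3 =
      bitProd e 934 := by
  refine ⟨basisEl M t, fun i => ?_, fun i j => ?_, fun i => ?_, fun i => ?_, ?_⟩
  · rw [pow_two, basisEl, h.phi_xor, Nat.xor_self, phi_zero]
  · show _ = _
    rw [basisEl, basisEl, h.phi_xor, h.phi_xor, Nat.xor_comm]
  · simpa [Model.ev] using h.conj_basis imgX_ok actX_ok i
  · simpa [Model.ev] using h.conj_basis imgY_ok actY_ok i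
  · obtain ⟨hw, hlt, hspan⟩ := base_ok
    rw [← M.uEl_eq, h.bitProd_eq, ← h.phi_eq_of_span hspan, ← h.known_eq _ hlt, hw, Model.tau_nil]

end Cfsg.Agent.Lib.J4Dce89
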