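import Cfsg.Agent.Lib.J4Dce89.TProof

/-!
The rules for conjugates of `t`, and the involution `u = (y t^w)^3`.
-/

namespace Cfsg.Agent.Lib.J4Dce89

variable {G : Type*} [Group G]

/-- relators of `J₄` that involve `t`, for a model of its subgroup `⟨x, y⟩` -/
structure J4Rel (M : Model G) (t : G) : Prop where
  ht : t * t = 1
  tx : Commute M.x t
  tk : Commute (M.y * M.x * M.y * (M.x * M.y⁻¹) ^ 2 * (M.x * M.y) ^ 3) t
  r11 : (M.y * ((M.y * M.x * M.y⁻¹ * M.x * M.y * M.x * M.y⁻¹ * M.x)⁻¹ * t *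
    (M.y * M.x * M.y⁻¹ * M.x * M.y * M.x * M.y⁻¹ * M.x))) ^ 3 = 1
  r12 : ((M.y * M.x * M.y * M.x * M.y * M.x * M.y) ^ 3 * t *
    (((M.x * M.y) ^ 3 * M.y * (M.x * M.y) ^ 6 * M.y)⁻¹ * t *
      ((M.x * M.y) ^ 3 * M.y * (M.x * M.y) ^ 6 * M.y))) ^ 2 = 1

/-- `x`, the generators of the centraliser of `t` and the words of the relators -/
def wX : W := [false]
def wXY : W := [false, true]
def wK : W := [true, false, true] ++ [false, true, true] ++ [false, true, true] ++ wXY ++ wXY ++ wXY
def wW1 : W := [true, false, true, true, false, true, false, true, true, false]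
def wSig : W := wXY ++ wXY ++ wXY ++ [true] ++ wXY ++ wXY ++ wXY ++ wXY ++ wXY ++ wXY ++ [true]
def wPi0 : W := [true, false, true, false, true, false, true]
def wPi : W := wPi0 ++ wPi0 ++ wPi0
def wW : W := [true, false, true, false, true, false, true, false, true, true, false]

/-- `π` as a word in the centralising generators -/
def piCert : List ℕ := [0, 1, 1, 0, 1, 1, 0, 1, 0, 1, 0, 1, 0, 1, 0, 1, 1, 1, 0, 1, 1, 0, 1, 1, 1, 0, 1, 0, 1]

theorem data_eq : gamT = [wX, wK] ∧ rLine = ([wW1 ++ [true, true], wW1 ++ [true]], [], [wW1]) ∧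
    rExp = ([wW1], [], [wW1 ++ [true, true], wW1 ++ [true]]) ∧
    rCancel = ([[], []], [], []) ∧ rInsert = ([], [], [[], []]) ∧
    rSigma = ([[], wSig ++ wPi], winv (wPi ++ wPi), [wSig, []]) ∧
    base = [wW ++ [true, true], wW ++ [true], wW] ∧
    cComm.start = ([], rCommT.1) ∧ cComm.target = rCommT.2.2 ∧ pev cComm.g = pev [] ∧
    rCommT.2.1 = [] := by decide +kernel

namespace Model

variable (M : Model G)

theorem ev_wXY : M.ev wXY = M.x * M.y := by simp [wXY, ev]

theorem ev_wK : M.ev wK = M.y * M.x * M.y * (M.x * M.y⁻¹) ^ 2 * (M.x * M.y) ^ 3 := by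
  rw [M.yinv, show (2 : ℕ) = 1 + 1 from rfl, pow_succ, pow_one, pow_three]
  simp [wK, wXY, ev, mul_assoc]

theorem ev_wW1 : M.ev wW1 = M.y * M.x * M.y⁻¹ * M.x * M.y * M.x * M.y⁻¹ * M.x := by
  rw [M.yinv]; simp [wW1, ev, mul_assoc]

theorem ev_wSig : M.ev wSig = (M.x * M.y) ^ 3 * M.y * (M.x * M.y) ^ 6 * M.y := by
  rw [show (6 : ℕ) = 3 + 3 from rfl, pow_add, pow_three]
  simp [wSig, wXY, ev, mul_assoc]

theorem ev_wPi : M.ev wPi = (M.y * M.x * M.y * M.x * M.y * M.x * M.y) ^ 3 := by
  rw [pow_three]; simp [wPi, wPi0, ev, mul_assoc]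

theorem ev_wW : M.ev wW = (M.y * M.x) ^ 4 * M.y⁻¹ * M.x := by
  rw [M.yinv, show (4 : ℕ) = 2 + 2 from rfl, pow_add, pow_two]
  simp [wW, ev, mul_assoc]

/-- `u = (y t^w)^3` as a product of three conjugates of `t` -/
def uEl (t : G) : G := M.prodTau t base

theorem cube_tau (t : G) (a : W) :
    (M.y * M.tau t a) ^ 3 =
      M.tau t (a ++ [true, true]) * M.tau t (a ++ [true]) * M.tau t a := by
  have e1 : M.ev [true, true] = M.y * M.y := by simp [ev]
  have e2 : M.ev [true] = M.y := by simp [ev]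
  have e3 : (M.y * M.y)⁻¹ = M.y := by rw [← M.yinv, inv_inv]
  rw [tau_append, tau_append, e1, e2, e3, pow_three]
  group

theorem uEl_eq (t : G) :
    M.uEl t = (M.y * (((M.y * M.x) ^ 4 * M.y⁻¹ * M.x)⁻¹ * t *
      ((M.y * M.x) ^ 4 * M.y⁻¹ * M.x))) ^ 3 := by
  rw [← M.ev_wW]
  change _ = (M.y * M.tau t wW) ^ 3
  rw [M.cube_tau t wW, uEl, data_eq.2.2.2.2.2.2.1]
  simp [prodTau, mul_assoc]

end Model

variable {M : Model G} {t : G}

theorem J4Rel.cents (h : J4Rel M t) : M.Cents t gamT := by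
  intro g hg
  rw [data_eq.1] at hg
  rcases List.mem_cons.mp hg with rfl | hg
  · simpa [wX, Model.ev] using h.tx
  · rw [List.mem_singleton] at hg
    rw [hg, M.ev_wK]; exact h.tk

theorem J4Rel.rulesT_ok (h : J4Rel M t) : ∀ r ∈ rulesT, M.RuleOK t r := by
  have line : M.tau t (wW1 ++ [true, true]) * M.tau t (wW1 ++ [true]) = M.tau t wW1 := by
    have h3 := M.cube_tau t wW1
    have h11 : (M.y * M.tau t wW1) ^ 3 = 1 := by rw [Model.tau, M.ev_wW1]; exact h.r11
    rw [h11] at h3
    have hself := M.tau_mul_self h.ht wW1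
    calc M.tau t (wW1 ++ [true, true]) * M.tau t (wW1 ++ [true])
        = M.tau t (wW1 ++ [true, true]) * M.tau t (wW1 ++ [true]) *
            (M.tau t wW1 * M.tau t wW1) := by rw [hself, mul_one]
      _ = M.tau t (wW1 ++ [true, true]) * M.tau t (wW1 ++ [true]) * M.tau t wW1 * M.tau t wW1 := by
            group
      _ = M.tau t wW1 := by rw [← h3, one_mul]
  obtain ⟨-, e1, e2, e3, e4, e5, -⟩ := data_eq
  intro r hr
  simp only [rulesT, List.mem_cons, List.mem_nil_iff, or_false] at hr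
  rcases hr with rfl | rfl | rfl | rfl | rfl
  · rw [e1]; simpa [Model.RuleOK, Model.prodTau, Model.ev] using line
  · rw [e2]; simpa [Model.RuleOK, Model.prodTau, Model.ev] using line.symm
  · rw [e3]; simpa [Model.RuleOK, Model.prodTau, Model.tau, Model.ev] using h.ht
  · rw [e4]; simpa [Model.RuleOK, Model.prodTau, Model.tau, Model.ev] using h.ht.symm
  · rw [e5]
    have hB := M.tau_mul_self h.ht wSig
    have hP : M.tau t wPi = M.tau t [] :=
      M.tau_eq h.cents piCert (by decide +kernel)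
    have hfix : (M.ev wPi)⁻¹ * t * M.ev wPi = t := by
      simpa [Model.tau, Model.ev] using hP
    have h2 : (M.ev wPi * (t * M.tau t wSig)) * (M.ev wPi * (t * M.tau t wSig)) = 1 := by
      have := h.r12
      rw [← M.ev_wPi, ← M.ev_wSig, pow_two] at this
      simpa [Model.tau, mul_assoc] using this
    simp only [Model.RuleOK, Model.prodTau_cons, Model.prodTau_nil, Model.tau_nil, mul_one,
      Model.tau_append, Model.ev_winv, Model.ev_append]
    generalize hP' : M.ev wPi = P at hfix h2 ⊢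
    generalize hB' : M.tau t wSig = B at hB h2 ⊢
    have h4 : t * B * P = P⁻¹ * (B * t) := by
      have h6 : P * (t * B * P) = B * t := by
        calc P * (t * B * P) = (P * (t * B) * (P * (t * B))) * (B⁻¹ * t⁻¹) := by group
          _ = B * t := by
            rw [h2, one_mul, inv_eq_of_mul_eq_one_left hB, inv_eq_of_mul_eq_one_left h.ht]
      rw [← h6, inv_mul_cancel_left]
    calc t * (P⁻¹ * B * P) = P⁻¹ * (P * t * P⁻¹) * B * P := by group
      _ = P⁻¹ * (t * B * P) := by
          rw [show P * t * P⁻¹ = t by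
            conv_lhs => rw [← hfix]
            group]
          group
      _ = (P * P)⁻¹ * (B * t) := by rw [h4]; group

theorem J4Rel.rulesT2_ok (h : J4Rel M t) : ∀ r ∈ rulesT2, M.RuleOK t r := by
  intro r hr
  simp only [rulesT2, List.mem_cons, List.mem_nil_iff, or_false] at hr
  rcases hr with hr | hr | hr | hr | hr | rfl
  · exact h.rulesT_ok r (by simp [rulesT, hr])
  · exact h.rulesT_ok r (by simp [rulesT, hr])
  · exact h.rulesT_ok r (by simp [rulesT, hr])
  · exact h.rulesT_ok r (by simp [rulesT, hr])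
  · exact h.rulesT_ok r (by simp [rulesT, hr])
  · obtain ⟨-, -, -, -, -, -, -, e1, e2, e3, e4⟩ := data_eq
    have := M.chain_val h.cents h.rulesT_ok cComm_ok
    simp only [Model.val, e1, e2, M.ev_congr e3, M.ev_nil, one_mul] at this
    simpa [Model.RuleOK, e4, Model.ev] using this

end Cfsg.Agent.Lib.J4Dce89
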