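import Cfsg.Agent.Lib.J4Dce89.TData

/-!
Consequences of the two symmetric relators of `J₄` at the level of conjugates of `t`.
-/

namespace Cfsg.Agent.Lib.J4Dce89

set_option maxRecDepth 10000

theorem cComm_ok : cComm.check gamT rulesT = true := by decide +kernel

theorem cSq_ok : cSq.check gamT rulesT2 = true := by decide +kernel

theorem cCent0_ok : cCent0.check gamT rulesT2 = true := by decide +kernel

theorem cCent1_ok : cCent1.check gamT rulesT2 = true := by decide +kernel

theorem cCent2_ok : cCent2.check gamT rulesT2 = true := by decide +kernel

theorem cLine_ok : cLine.check gamT rulesT2 = true := by decide +kernel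

theorem cConjS_ok : cConjS.check gamT rulesT2 = true := by decide +kernel

theorem cConjP_ok : cConjP.check gamT rulesT2 = true := by decide +kernel

end Cfsg.Agent.Lib.J4Dce89
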