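import Cfsg.Agent.Lib.J4Dce89.TData

/-! Generated certificate data for the elementary group of order 2^11 in the presented `J₄`. -/

namespace Cfsg.Agent.Lib.J4Dce89


def wA : W := (wOf 0x36da 14)

def wB : W := (wOf 0x6daa 15)

def wC : W := (wOf 0x156aa 18)

def wS : W := (wOf 0x16 5)

def wP : W := (wOf 0xab6b6 20)

def wR : W := (wOf 0x1b5b6a 22)

def wQ : W := (wOf 0x56b6b6a 27)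

def wR1 : W := (wOf 0x35ad5a 22)

def wQ1 : W := (wOf 0x56b6ab6 28)

def uLine : Rule := ([wA, wB], [], [wC])

def uExp : Rule := ([wC], [], [wA, wB])

def uCancel : Rule := ([[], []], [], [])

def uInsert : Rule := ([], [], [[], []])

def uSwapL : Rule := ([wA, wB], [], [wB, wA])

def uSwapO : Rule := ([wS, wP], [], [wP, wS])

def uSwapB : Rule := ([wR1, wR], [], [wR, wR1])

def rulesU : List Rule := [uLine, uExp, uCancel, uInsert]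

def rulesU5 : List Rule := [uLine, uExp, uCancel, uInsert, uSwapL, uSwapO]

def rulesU6 : List Rule := [uLine, uExp, uCancel, uInsert, uSwapL, uSwapO, uSwapB]

def cSwapL : Chain where
  start := ([], [(wOf 0x36da 14), (wOf 0x6daa 15)])
  steps := [⟨0, 0, [], ([], [(wOf 0x156aa 18)]), [[], []], [[]]⟩,
    ⟨0, 1, (wOf 0x156ab56d5b556b6dab6adadb5b6 106), ([], [(wOf 0x6daa 15), (wOf 0x36da 14)]), [[1, 0, 1]], [[1, 2, 0, 2, 0, 1, 2, 0, 2, 0, 1, 0, 1, 2, 0, 1, 2, 0, 1, 2, 0, 2], [1, 2, 0, 2, 0, 1, 2, 0, 2, 0, 1, 0, 1, 2, 0, 1, 2, 0, 1, 2, 0, 2]]⟩]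
  g := []
  last := [(wOf 0x6daa 15), (wOf 0x36da 14)]
  cert := [[], []]
  target := [(wOf 0x6daa 15), (wOf 0x36da 14)]

def cSwapO : Chain where
  start := ([], [(wOf 0x16 5), (wOf 0xab6b6 20)])
  steps := [⟨0, 1, (wOf 0x35b56d55b5adb6dab6adaab5b5b5b6 118), ([], [(wOf 0x2db6a 18), (wOf 0x1b55ad6 26), (wOf 0xab6b6 20)]), [[1, 0, 2, 0, 2, 0, 1, 2, 0]], [[1, 2, 0, 1, 2, 0, 2, 0, 2, 0, 1, 0, 2, 0, 1, 2, 0, 2, 0, 2, 0], [1, 0, 1, 2, 0, 2, 0, 1, 0, 1, 2, 0, 1, 2, 0, 1, 2, 0, 1, 2, 0], []]⟩,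
    ⟨0, 1, (wOf 0xb6db55b6dab6adaab5b5b5b6 96), ([], [(wOf 0xab6b6 20), (wOf 0x56b56 20), (wOf 0x1b55ad6 26), (wOf 0xab6b6 20)]), [[1, 2, 0]], [[1, 2, 0, 1, 2, 0, 2, 0, 2, 0, 1, 0, 2, 0, 1, 0, 1, 2, 0, 1, 2, 0, 1], [2, 0, 1, 0, 1, 2, 0, 1, 0, 1, 2, 0, 1, 0, 2, 0, 1, 0, 2, 0, 2, 0, 1, 2], [], []]⟩,
    ⟨1, 1, (wOf 0x2b5aaaab5ab6dab6adaab5b5b5b6 111), ([], [(wOf 0xab6b6 20), (wOf 0x1b5aa 18), (wOf 0x2ab6ab6 26), (wOf 0x1b55ad6 26), (wOf 0xab6b6 20)]), [[2, 0, 2, 0, 2, 0, 1, 0]], [[], [1, 0, 1, 2, 0, 1, 0, 1, 2, 0, 1, 0, 2, 0, 1, 2, 0, 1, 2, 0, 2, 0, 2, 0, 2], [1, 0, 2, 0, 2, 0, 2, 0, 1, 2, 0, 2, 0, 1, 0, 2, 0, 2, 0, 1, 2, 0, 1, 2, 0], [], []]⟩,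
    ⟨2, 0, (wOf 0x2ab6ab556b6dab6adaab5b6d5b56d55 122), ([], [(wOf 0xab6b6 20), (wOf 0x1b5aa 18), (wOf 0xad555a 24), (wOf 0xab6b6 20)]), [[0, 1, 0, 1], [0, 1, 0, 2, 0, 1, 2, 0, 2, 0, 1, 2, 0, 1, 2]], [[], [], [1, 2, 0, 1, 0, 1, 2, 0, 1, 0, 2, 0, 1, 2, 0, 1], []]⟩,
    ⟨2, 0, (wOf 0x56aab56db6adab6aadad5b6d5b56d55b 127), ([], [(wOf 0xab6b6 20), (wOf 0x1b5aa 18), (wOf 0x1b6ad6 21)]), [[1, 2, 0, 2, 0, 2, 0, 1, 0], [0, 2, 0, 2, 0, 1, 2, 0, 1, 0, 2, 0, 2, 0, 1, 2, 0, 1, 2, 0, 1, 0, 1, 2, 0, 1]], [[], [], [1, 2, 0, 2, 0, 1, 2, 0, 2, 0, 2, 0, 2, 0, 2, 0, 1, 2, 0, 1]]⟩,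
    ⟨1, 0, (wOf 0xdad6adb6db56d5b556d6db6d5b56d55b 129), ([], [(wOf 0xab6b6 20), (wOf 0x16 5)]), [[0, 1, 2, 0, 2, 0, 1, 2, 0], [0, 1, 0, 1, 0, 2, 0, 2, 0, 1, 2, 0, 1, 0, 1, 2, 0, 1, 0, 2, 0, 1]], [[], [2, 0, 1, 0, 1, 2, 0, 1, 2, 0, 2, 0, 1, 0, 2, 0, 1, 2, 0, 1, 2, 0]]⟩]
  g := []
  last := [(wOf 0xab6b6 20), (wOf 0x16 5)]
  cert := [[], []]
  target := [(wOf 0xab6b6 20), (wOf 0x16 5)]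

def cSP : Chain where
  start := ([], [(wOf 0x16 5), (wOf 0xab6b6 20)])
  steps := [⟨0, 5, [], ([], [(wOf 0xab6b6 20), (wOf 0x16 5)]), [[], []], [[], []]⟩]
  g := []
  last := [(wOf 0xab6b6 20), (wOf 0x16 5)]
  cert := [[], []]
  target := [(wOf 0xab6b6 20), (wOf 0x16 5)]

def cRQ : Chain where
  start := ([], [(wOf 0x1b5b6a 22), (wOf 0x56b6b6a 27)])
  steps := [⟨0, 5, (wOf 0xdadb6adb6db56d5b556db6dab6ad 113), ([], [(wOf 0x56b6b6a 27), (wOf 0x1b5b6a 22)]), [[0, 1, 2, 0, 1, 2], [2, 0, 1, 2, 0, 1, 0, 2, 0, 2, 0, 1, 2, 0, 2, 0, 2, 0, 2, 0, 1, 0, 2, 0]], [[0, 2, 0, 1, 0, 2, 0, 2, 0, 2, 0, 1, 2, 0, 2, 0, 2, 0, 1, 0, 1, 2, 0, 2], [1, 2, 0, 1, 2, 0]]⟩]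
  g := []
  last := [(wOf 0x56b6b6a 27), (wOf 0x1b5b6a 22)]
  cert := [[], []]
  target := [(wOf 0x56b6b6a 27), (wOf 0x1b5b6a 22)]

def cRQ1 : Chain where
  start := ([], [(wOf 0x1b5b6a 22), (wOf 0x56b6ab6 28)])
  steps := [⟨0, 5, (wOf 0x1b5b6b56d5b556b6db 70), ([], [(wOf 0x56b6ab6 28), (wOf 0x1b5b6a 22)]), [[1, 0], [0, 2, 0, 1, 2, 0, 2, 0, 1, 2, 0, 2, 0, 2, 0, 1, 2, 0, 2, 0, 1, 2, 0]], [[0, 1, 2, 0, 2, 0, 1, 2, 0, 2, 0, 2, 0, 1, 2, 0, 2, 0, 1, 2, 0, 2, 0], [0, 1]]⟩]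
  g := []
  last := [(wOf 0x56b6ab6 28), (wOf 0x1b5b6a 22)]
  cert := [[], []]
  target := [(wOf 0x56b6ab6 28), (wOf 0x1b5b6a 22)]

def certR1 : List ℕ := [0, 2, 0, 2, 0, 2, 0, 1, 0, 2, 0, 1, 2, 0, 1, 2, 0, 1, 0, 1]

def certQ1 : List ℕ := [1, 0, 1, 2, 0, 2, 0, 1, 0, 2, 0, 2, 0, 2, 0, 1, 2, 0, 1, 0, 2, 0, 1]

end Cfsg.Agent.Lib.J4Dce89
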