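import Cfsg.Agent.Lib.J4Dce89.TMain
import Cfsg.Agent.Lib.J4Dce89.UData

/-!
The rules for conjugates of `u`: the line relation and commutation for all three types of pairs.
-/

namespace Cfsg.Agent.Lib.J4Dce89

theorem cSwapL_ok : cSwapL.check gamU rulesU = true := by decide +kernel

theorem cSwapO_ok : cSwapO.check gamU rulesU = true := by decide +kernel

theorem cSP_ok : cSP.check gamU rulesU5 = true := by decide +kernel

theorem cRQ_ok : cRQ.check gamU rulesU5 = true := by decide +kernel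

theorem cRQ1_ok : cRQ1.check gamU rulesU5 = true := by decide +kernel

theorem certR1_ok : pev wR1 = pev (expand gamU certR1 ++ (wR ++ cConjP.g)) := by decide +kernel

theorem certQ1_ok : pev wQ1 = pev (expand gamU certQ1 ++ (wQ ++ cConjS.g)) := by decide +kernel

theorem gh_comm : pev (cConjS.g ++ cConjP.g) = pev (cConjP.g ++ cConjS.g) := by decide +kernel

theorem gamU_len : gamU.length = 3 := by decide +kernel

/-- shapes of the generated chains -/
theorem data_eq2 :
    (cCent0.start = ([], base.map (· ++ gamU.getD 0 [])) ∧ cCent0.target = base ∧ pev cCent0.g = pev []) ∧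
    (cCent1.start = ([], base.map (· ++ gamU.getD 1 [])) ∧ cCent1.target = base ∧ pev cCent1.g = pev []) ∧
    (cCent2.start = ([], base.map (· ++ gamU.getD 2 [])) ∧ cCent2.target = base ∧ pev cCent2.g = pev []) ∧
    (cSq.start = ([], base ++ base) ∧ cSq.target = [] ∧ pev cSq.g = pev []) ∧
    (cLine.start = ([], base.map (· ++ wA) ++ base.map (· ++ wB)) ∧
      cLine.target = base.map (· ++ wC) ∧ pev cLine.g = pev []) ∧
    (cConjS.start = ([], [[]] ++ base.map (· ++ wS) ++ [[]]) ∧ cConjS.target = base.map (· ++ wR)) ∧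
    (cConjP.start = ([], [[]] ++ base.map (· ++ wP) ++ [[]]) ∧ cConjP.target = base.map (· ++ wQ)) ∧
    (cSwapL.start = ([], [wA, wB]) ∧ cSwapL.target = [wB, wA] ∧ pev cSwapL.g = pev []) ∧
    (cSwapO.start = ([], [wS, wP]) ∧ cSwapO.target = [wP, wS] ∧ pev cSwapO.g = pev []) ∧
    (cSP.start = ([], [wS, wP]) ∧ cSP.target = [wP, wS] ∧ pev cSP.g = pev []) ∧
    (cRQ.start = ([], [wR, wQ]) ∧ cRQ.target = [wQ, wR] ∧ pev cRQ.g = pev []) ∧
    (cRQ1.start = ([], [wR, wQ1]) ∧ cRQ1.target = [wQ1, wR] ∧ pev cRQ1.g = pev []) := by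
  exact ⟨by decide +kernel, by decide +kernel, by decide +kernel, by decide +kernel, by decide +kernel,
    by decide +kernel, by decide +kernel, by decide +kernel, by decide +kernel, by decide +kernel,
    by decide +kernel, by decide +kernel⟩

variable {G : Type*} [Group G] {M : Model G} {t : G}

theorem tau_uEl (M : Model G) (t : G) (a : W) :
    M.tau (M.uEl t) a = M.prodTau t (base.map (· ++ a)) := by
  rw [Model.prodTau_conj, Model.tau, Model.uEl]

theorem J4Rel.t_chain (h : J4Rel M t) {C : Chain} (hC : C.check gamT rulesT2 = true)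
    {l m : List W} (hs : C.start = ([], l)) (ht' : C.target = m) :
    M.prodTau t l = M.ev C.g * M.prodTau t m := by
  have := M.chain_val h.cents h.rulesT2_ok hC
  simpa [Model.val, hs, ht', Model.ev] using this

theorem J4Rel.u_cent (h : J4Rel M t) : M.Cents (M.uEl t) gamU := by
  obtain ⟨⟨a0, b0, c0⟩, ⟨a1, b1, c1⟩, ⟨a2, b2, c2⟩, -⟩ := data_eq2
  intro g hg
  obtain ⟨i, hi, rfl⟩ := List.mem_iff_getElem.mp hg
  rw [← List.getD_eq_getElem gamU [] hi]
  rw [gamU_len] at hi
  have key : ∀ C : Chain, C.check gamT rulesT2 = true → ∀ a : W,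
      C.start = ([], base.map (· ++ a)) → C.target = base → pev C.g = pev [] →
      Commute (M.ev a) (M.uEl t) := by
    intro C hC a hs ht' hg
    have h1 := h.t_chain hC hs ht'
    rw [M.ev_congr hg, M.ev_nil, one_mul, Model.prodTau_conj] at h1
    change _ = _
    calc M.ev a * M.uEl t = M.ev a * ((M.ev a)⁻¹ * M.uEl t * M.ev a) := by rw [Model.uEl, h1]
      _ = M.uEl t * M.ev a := by group
  interval_cases i
  · exact key _ cCent0_ok _ a0 b0 c0
  · exact key _ cCent1_ok _ a1 b1 c1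
  · exact key _ cCent2_ok _ a2 b2 c2

theorem J4Rel.u_sq (h : J4Rel M t) : M.uEl t * M.uEl t = 1 := by
  obtain ⟨-, -, -, ⟨a, b, c⟩, -⟩ := data_eq2
  have h1 := h.t_chain cSq_ok a b
  rwa [M.ev_congr c, M.ev_nil, one_mul, Model.prodTau_append, Model.prodTau_nil] at h1

theorem J4Rel.rulesU_ok (h : J4Rel M t) : ∀ r ∈ rulesU, M.RuleOK (M.uEl t) r := by
  obtain ⟨-, -, -, -, ⟨a, b, c⟩, -⟩ := data_eq2
  have line : M.tau (M.uEl t) wA * M.tau (M.uEl t) wB = M.tau (M.uEl t) wC := by
    have h1 := h.t_chain cLine_ok a b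
    rw [M.ev_congr c, M.ev_nil, one_mul, Model.prodTau_append] at h1
    simpa [tau_uEl] using h1
  intro r hr
  simp only [rulesU, List.mem_cons, List.mem_nil_iff, or_false] at hr
  rcases hr with rfl | rfl | rfl | rfl
  · simpa [uLine, Model.RuleOK, Model.prodTau, Model.ev] using line
  · simpa [uExp, Model.RuleOK, Model.prodTau, Model.ev] using line.symm
  · simpa [uCancel, Model.RuleOK, Model.prodTau, Model.tau, Model.ev] using h.u_sq
  · simpa [uInsert, Model.RuleOK, Model.prodTau, Model.tau, Model.ev] using h.u_sq.symm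

theorem J4Rel.comm_of_chain (h : J4Rel M t) {rules : List Rule}
    (hR : ∀ r ∈ rules, M.RuleOK (M.uEl t) r) {C : Chain} (hC : C.check gamU rules = true) {a b : W}
    (hs : C.start = ([], [a, b])) (ht' : C.target = [b, a]) (hg : pev C.g = pev []) :
    M.tau (M.uEl t) a * M.tau (M.uEl t) b = M.tau (M.uEl t) b * M.tau (M.uEl t) a := by
  have := M.chain_val h.u_cent hR hC
  rw [ht', M.ev_congr hg, Model.val, hs] at this
  simpa [Model.prodTau, Model.ev] using this

theorem J4Rel.rulesU5_ok (h : J4Rel M t) : ∀ r ∈ rulesU5, M.RuleOK (M.uEl t) r := by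
  obtain ⟨-, -, -, -, -, -, -, ⟨a, b, c⟩, ⟨a', b', c'⟩, -⟩ := data_eq2
  intro r hr
  simp only [rulesU5, List.mem_cons, List.mem_nil_iff, or_false] at hr
  rcases hr with hr | hr | hr | hr | rfl | rfl
  · exact h.rulesU_ok r (by simp [rulesU, hr])
  · exact h.rulesU_ok r (by simp [rulesU, hr])
  · exact h.rulesU_ok r (by simp [rulesU, hr])
  · exact h.rulesU_ok r (by simp [rulesU, hr])
  · simpa [uSwapL, Model.RuleOK, Model.prodTau, Model.ev] using h.comm_of_chain h.rulesU_ok cSwapL_ok a b c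
  · simpa [uSwapO, Model.RuleOK, Model.prodTau, Model.ev] using h.comm_of_chain h.rulesU_ok cSwapO_ok a' b' c'

theorem bad_comm_algebra {c uS uP R Q R1 Q1 g k : G} (hc : c * c = 1)
    (eS : c * uS * c = g * R) (eP : c * uP * c = k * Q) (hsp : uS * uP = uP * uS)
    (hgk : g * k = k * g) (hR1 : R1 = k⁻¹ * R * k) (hQ1 : Q1 = g⁻¹ * Q * g)
    (hRQ : R * Q = Q * R) (hRQ1 : R * Q1 = Q1 * R) (hQ : Q * Q = 1) : R1 * R = R * R1 := by
  have h1 : (g * R) * (k * Q) = (k * Q) * (g * R) := by
    calc (g * R) * (k * Q) = (c * uS * c) * (c * uP * c) := by rw [eS, eP]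
      _ = c * uS * (c * c) * uP * c := by group
      _ = c * (uS * uP) * c := by rw [hc]; group
      _ = c * (uP * uS) * c := by rw [hsp]
      _ = c * uP * (c * c) * uS * c := by rw [hc]; group
      _ = (c * uP * c) * (c * uS * c) := by group
      _ = (k * Q) * (g * R) := by rw [eS, eP]
  have h2 : R1 * Q = Q1 * R := by
    refine mul_left_cancel (a := g * k) ?_
    calc g * k * (R1 * Q) = (g * R) * (k * Q) := by rw [hR1]; group
      _ = (k * Q) * (g * R) := h1
      _ = k * g * (Q1 * R) := by rw [hQ1]; group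
      _ = g * k * (Q1 * R) := by rw [hgk]
  have h3 : R1 = Q1 * R * Q := by
    calc R1 = R1 * (Q * Q) := by rw [hQ, mul_one]
      _ = Q1 * R * Q := by rw [← mul_assoc, h2]
  calc R1 * R = Q1 * R * (Q * R) := by rw [h3, mul_assoc]
    _ = Q1 * R * (R * Q) := by rw [hRQ]
    _ = (Q1 * R) * (R * Q) := by group
    _ = (R * Q1) * (R * Q) := by rw [hRQ1]
    _ = R * R1 := by rw [h3]; group

theorem J4Rel.rulesU6_ok (h : J4Rel M t) : ∀ r ∈ rulesU6, M.RuleOK (M.uEl t) r := by
  obtain ⟨-, -, -, -, -, ⟨sS, tS⟩, ⟨sP, tP⟩, -, -, ⟨a, b, c⟩, ⟨a1, b1, c1⟩, ⟨a2, b2, c2⟩⟩ := data_eq2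
  have hcomm : M.tau (M.uEl t) wR1 * M.tau (M.uEl t) wR = M.tau (M.uEl t) wR * M.tau (M.uEl t) wR1 := by
    refine bad_comm_algebra (c := t) (uS := M.tau (M.uEl t) wS) (uP := M.tau (M.uEl t) wP)
      (g := M.ev cConjS.g) (k := M.ev cConjP.g) (Q := M.tau (M.uEl t) wQ)
      (Q1 := M.tau (M.uEl t) wQ1) h.ht ?_ ?_ (h.comm_of_chain h.rulesU5_ok cSP_ok a b c) ?_ ?_ ?_
      (h.comm_of_chain h.rulesU5_ok cRQ_ok a1 b1 c1) (h.comm_of_chain h.rulesU5_ok cRQ1_ok a2 b2 c2)
      (M.tau_mul_self h.u_sq _)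
    · have := h.t_chain cConjS_ok sS tS
      simpa [Model.prodTau_append, Model.prodTau_cons, Model.prodTau_nil, Model.tau_nil, ← tau_uEl,
        mul_assoc] using this
    · have := h.t_chain cConjP_ok sP tP
      simpa [Model.prodTau_append, Model.prodTau_cons, Model.prodTau_nil, Model.tau_nil, ← tau_uEl,
        mul_assoc] using this
    · rw [← Model.ev_append, ← Model.ev_append]; exact M.ev_congr gh_comm
    · rw [M.tau_eq h.u_cent certR1 certR1_ok, Model.tau_append]
    · rw [M.tau_eq h.u_cent certQ1 certQ1_ok, Model.tau_append]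
  intro r hr
  simp only [rulesU6, List.mem_cons, List.mem_nil_iff, or_false] at hr
  rcases hr with hr | hr | hr | hr | hr | hr | rfl
  · exact h.rulesU5_ok r (by simp [rulesU5, hr])
  · exact h.rulesU5_ok r (by simp [rulesU5, hr])
  · exact h.rulesU5_ok r (by simp [rulesU5, hr])
  · exact h.rulesU5_ok r (by simp [rulesU5, hr])
  · exact h.rulesU5_ok r (by simp [rulesU5, hr])
  · exact h.rulesU5_ok r (by simp [rulesU5, hr])
  · simpa [uSwapB, Model.RuleOK, Model.prodTau, Model.ev] using hcomm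

end Cfsg.Agent.Lib.J4Dce89
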